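import Cfsg.Agent.G2S.Def

/-! Basic facts: `2`-elements, the action on `A / Z(A)` (copy of `Wr2/St`). -/

set_option autoImplicit false
set_option linter.unusedSectionVars false
set_option maxRecDepth 100000

namespace Cfsg.Agent.G2S

open Cfsg Subgroup Cfsg.Agent.X32 Cfsg.Agent.Wr TG Cfsg.Agent.PLocal Cfsg.Agent.PLocal.Amb
  Cfsg.Agent.Lyons Cfsg.Agent.GHO
open scoped commutatorElement

theorem idx_normal {Y : Type*} [Group Y] {Y₀ : Subgroup Y}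
    (h : ∀ a b, a ∉ Y₀ → b ∉ Y₀ → a * b ∈ Y₀) : Y₀.Normal := ⟨fun a ha g => by
  by_cases hg : g ∈ Y₀
  · exact mul_mem (mul_mem hg ha) (inv_mem hg)
  · exact h _ _ (fun e => hg (by simpa using mul_mem e (inv_mem ha))) fun e => hg (inv_mem_iff.1 e)⟩

theorem idx_mul {Y : Type*} [Group Y] {Y₀ : Subgroup Y}
    (h : ∀ a b, a ∉ Y₀ → b ∉ Y₀ → a * b ∈ Y₀) (a b : Y) : a * b ∈ Y₀ ↔ (a ∈ Y₀ ↔ b ∈ Y₀) := by
  by_cases ha : a ∈ Y₀
  · simp [ha, mul_mem_cancel_left]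
  · by_cases hb : b ∈ Y₀
    · simp [ha, hb, mul_mem_cancel_right]
    · simp [ha, hb, h]

variable {G : Type*} [Group G] [Finite G] {Y : Type*} [Group Y] [Finite Y]

theorem tw_of_sq {x : G} (h : x * x = 1) : Tw x := ⟨1, by rwa [pow_one, sq]⟩

theorem Tw.conj {x : G} (h : Tw x) (g : G) : Tw (g * x * g⁻¹) :=
  h.imp fun k hk => by rw [conj_pow, hk]; group

theorem Tw.eq_one {x : G} (h : Tw x) (ho : Odd (orderOf x)) : x = 1 :=
  eq_one_of_odd (isPGroup_zpowers h) (mem_zpowers x) ho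

theorem Tw.mul {x y : G} (h : Tw x) (h' : Tw y) (c : x * y = y * x) : Tw (x * y) := by
  obtain ⟨k, hk⟩ := h
  obtain ⟨l, hl⟩ := h'
  exact ⟨k + l, by
    rw [(show Commute x y from c).mul_pow, pow_add, pow_mul, hk, one_pow, one_mul, mul_comm, pow_mul,
      hl, one_pow]⟩

theorem Tw.inv {x : G} (h : Tw x) : Tw x⁻¹ := h.imp fun k hk => by rw [inv_pow, hk, inv_one]

theorem tw_map {ψ : S →* G} (s : S) : Tw (ψ s) := ⟨6, by rw [← map_pow, pow_S, map_one]⟩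

theorem Tw.inv_pow {x : G} (h : Tw x) (h1 : x ≠ 1) : ∃ n, x ^ n * x ^ n = 1 ∧ x ^ n ≠ 1 := by
  obtain ⟨k, hk⟩ := h
  induction k with
  | zero => exact absurd (by simpa using hk) h1
  | succ k ih =>
    by_cases e : x ^ 2 ^ k = 1
    · exact ih e
    · exact ⟨2 ^ k, by rw [← pow_add, ← two_mul, ← pow_succ', hk], e⟩

omit [Finite G] in
theorem cj1 {g x : G} (h : g⁻¹ * x * g = 1) : x = 1 := by
  rw [show x = g * (g⁻¹ * x * g) * g⁻¹ by group, h]; group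

theorem clt {H K : Subgroup G} (h : H < K) : Nat.card H < Nat.card K :=
  lt_of_le_of_ne (card_le_of_le h.le) fun e => h.ne (eq_of_le_of_card_ge h.le e.ge)

theorem ord2 {x : G} (h : x * x = 1) (h1 : x ≠ 1) : orderOf x = 2 :=
  orderOf_eq_prime (by rw [sq, h]) h1

theorem card_zp {x : G} (h : x * x = 1) (h1 : x ≠ 1) : Nat.card (zpowers x) = 2 := by
  rw [Nat.card_zpowers, ord2 h h1]

theorem mem_zp {x y : G} (h : x * x = 1) (hy : y ∈ zpowers x) : y = 1 ∨ y = x := by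
  obtain ⟨n, rfl⟩ := hy
  obtain ⟨m, rfl | rfl⟩ := Int.even_or_odd' n
  · left; simp only; rw [zpow_mul, zpow_ofNat, sq, h, one_zpow]
  · right; simp only; rw [zpow_add, zpow_mul, zpow_ofNat, sq, h, one_zpow, one_mul, zpow_one]

theorem card_map' {H : Type*} [Group H] {f : H →* G} (hf : Function.Injective f) (U : Subgroup H) :
    Nat.card (U.map f) = Nat.card U := (Nat.card_congr (U.equivMapOfInjective f hf).toEquiv).symm

theorem exists_tw (x : G) : ∃ m, Odd m ∧ Tw (x ^ m) := by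
  obtain ⟨j, m, hm, e1⟩ := Nat.exists_eq_pow_mul_and_not_dvd (orderOf_pos x).ne' 2 (by norm_num)
  exact ⟨m, Nat.not_even_iff_odd.1 fun e => hm e.two_dvd, j, by
    rw [← pow_mul, mul_comm, ← e1, pow_orderOf_eq_one]⟩

theorem comm_top {A : Subgroup G} (h : ⁅A, A⁆ = A) : _root_.commutator A = ⊤ := by
  apply map_injective A.subtype_injective
  rw [_root_.commutator_def, map_commutator, ← MonoidHom.range_eq_map, range_subtype, h]

theorem exists_St' {Y₀ : Subgroup Y} (Fc : ∀ {y : Y}, (∀ a ∈ Y₀, y * a = a * y) → y = 1)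
    (Fa : ∀ α : MulAut Y₀, ∃ y : Y, ∀ a : Y₀, (α a : Y) = y * a * y⁻¹) {A : Subgroup G}
    {ψ : G → Y} (h1 : ∀ a ∈ A, ∀ b ∈ A, ψ (a * b) = ψ a * ψ b) (h2 : ∀ a ∈ A, ψ a ∈ Y₀)
    (h3 : ∀ y ∈ Y₀, ∃ a ∈ A, ψ a = y) (h4 : ∀ a ∈ A, ψ a = 1 → a ∈ 𝐂[A] ∧ Odd (orderOf a))
    (h5 : ⁅A, A⁆ = A) : ∃ ρ, St A ρ Y₀ ∧ ∀ m ∈ 𝐍[A], ∀ y,
      (∀ a ∈ A, ψ (m * a * m⁻¹) = y * ψ a * y⁻¹) → ρ m = y := by
  classical
  let χ : A →* Y := MonoidHom.mk' (fun a => ψ a) fun a b => h1 a a.2 b b.2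
  have hi : ∀ a ∈ A, ψ a⁻¹ = (ψ a)⁻¹ := fun a ha => map_inv χ ⟨a, ha⟩
  have c1 : ∀ a ∈ A, a ∈ 𝐂[A] → ψ a = 1 := fun a ha hc => Fc fun y hy => by
    obtain ⟨b, hb, rfl⟩ := h3 y hy
    rw [← h1 a ha b hb, ← h1 b hb a ha, mem_C.1 hc b hb]
  have wd : ∀ m ∈ 𝐍[A], ∀ a ∈ A, ∀ b ∈ A, ψ a = ψ b → ψ (m * a * m⁻¹) = ψ (m * b * m⁻¹) := by
    intro m hm a ha b hb e
    have c := (h4 _ (mul_mem (inv_mem ha) hb) (by rw [h1 _ (inv_mem ha) _ hb, hi a ha, e]; group)).1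
    have := c1 _ (conj_mem_of_mem_normalizer hm (mul_mem (inv_mem ha) hb))
      (conj_mem_of_mem_normalizer (normalizer_le_normalizer_centralizer A hm) c)
    rw [show m * (a⁻¹ * b) * m⁻¹ = (m * a * m⁻¹)⁻¹ * (m * b * m⁻¹) by group,
      h1 _ (inv_mem (conj_mem_of_mem_normalizer hm ha)) _ (conj_mem_of_mem_normalizer hm hb),
      hi _ (conj_mem_of_mem_normalizer hm ha), inv_mul_eq_one] at this
    exact this
  choose! s hs using h3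
  have ex : ∀ m, ∃ y, m ∈ 𝐍[A] → ∀ a ∈ A, ψ (m * a * m⁻¹) = y * ψ a * y⁻¹ := fun m => by
    by_cases hm : m ∈ 𝐍[A]
    swap
    · exact ⟨1, fun h => absurd h hm⟩
    let f : ∀ m ∈ 𝐍[A], Y₀ → Y₀ := fun m hm y =>
      ⟨ψ (m * s y * m⁻¹), h2 _ (conj_mem_of_mem_normalizer hm (hs y y.2).1)⟩
    have k : ∀ m (hm : m ∈ 𝐍[A]), ∀ a (ha : a ∈ A), ∀ y : Y₀, ψ a = y →
        (f m hm y : Y) = ψ (m * a * m⁻¹) := fun m hm a ha y e =>
      wd m hm _ (hs y y.2).1 a ha ((hs y y.2).2.trans e.symm)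
    have inv : ∀ m (hm : m ∈ 𝐍[A]) m' (hm' : m' ∈ 𝐍[A]), m * m' = 1 → ∀ y,
        f m hm (f m' hm' y) = y := fun m hm m' hm' e y => Subtype.ext (by
      rw [k m hm _ (conj_mem_of_mem_normalizer hm' (hs y y.2).1) _ rfl,
        show m * (m' * s y * m'⁻¹) * m⁻¹ = (m * m') * s y * (m * m')⁻¹ by group, e]
      simpa using (hs y y.2).2)
    obtain ⟨y, hy⟩ := Fa ⟨⟨f m hm, f m⁻¹ (inv_mem hm), inv _ (inv_mem hm) _ hm (inv_mul_cancel m),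
      inv _ hm _ (inv_mem hm) (mul_inv_cancel m)⟩, fun a b => Subtype.ext (by
        show (f m hm (a * b) : Y) = f m hm a * f m hm b
        rw [k m hm _ (mul_mem (hs a a.2).1 (hs b b.2).1) _ (by
          rw [h1 _ (hs a a.2).1 _ (hs b b.2).1, (hs a a.2).2, (hs b b.2).2]; rfl),
          ← h1 _ (conj_mem_of_mem_normalizer hm (hs a a.2).1) _
            (conj_mem_of_mem_normalizer hm (hs b b.2).1)]
        congr 1; group)⟩
    exact ⟨y, fun _ a ha => (k m hm a ha ⟨_, h2 a ha⟩ rfl).symm.trans (hy ⟨_, h2 a ha⟩)⟩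
  choose ρ hρ using ex
  have uq : ∀ m ∈ 𝐍[A], ∀ y, (∀ a ∈ A, ψ (m * a * m⁻¹) = y * ψ a * y⁻¹) → ρ m = y :=
    fun m hm y hy => (inv_mul_eq_one.1 (Fc fun b hb => by
      have := (hy _ (hs b hb).1).symm.trans (hρ m hm _ (hs b hb).1)
      rw [(hs b hb).2] at this
      calc _ = y⁻¹ * (ρ m * b * (ρ m)⁻¹) * ρ m := by group
        _ = _ := by rw [← this]; group)).symm
  have e1 : ∀ a ∈ A, ρ a = ψ a := fun a ha => uq a (le_normalizer ha) _ fun b hb => by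
    rw [h1 _ (mul_mem ha hb) _ (inv_mem ha), h1 a ha b hb, hi a ha]
  refine ⟨ρ, ⟨fun a ha b hb => uq _ (mul_mem ha hb) _ fun c hc => ?_, fun m hm => ⟨fun e => ?_,
    fun hc => uq m hm 1 fun a ha => by rw [← mem_C.1 hc a ha]; simp⟩,
    fun a ha => e1 a ha ▸ h2 a ha, fun y hy => ⟨s y, (hs y hy).1, by rw [e1 _ (hs y hy).1, (hs y hy).2]⟩,
    fun a ha e => (h4 a ha (e1 a ha ▸ e)).2, h5⟩, uq⟩
  · rw [show a * b * c * (a * b)⁻¹ = a * (b * c * b⁻¹) * a⁻¹ by group,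
      hρ a ha _ (conj_mem_of_mem_normalizer hb hc), hρ b hb c hc]; group
  · have := Std.aut_eq_one_of_center (comm_top h5) (A.normalizerMonoidHom ⟨m, hm⟩) fun y =>
      mem_center_iff.2 fun b => Subtype.ext (mem_C.1 (h4 _ (A.normalizerMonoidHom ⟨m, hm⟩ y * y⁻¹).2
        (by
          show ψ (m * y * m⁻¹ * (y : G)⁻¹) = 1
          rw [h1 _ (conj_mem_of_mem_normalizer hm y.2) _ (inv_mem y.2), hρ m hm _ y.2, e, hi _ y.2]
          group)).1 b b.2)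
    exact mem_C.2 fun a ha => (conj_eq_iff.1 (congrArg Subtype.val (DFunLike.congr_fun this
      ⟨a, ha⟩))).symm

namespace St
variable {A : Subgroup G} {ρ : G → Y} {Y₀ : Subgroup Y} (h : St A ρ Y₀)
include h

/-- the homomorphism -/
def hom : 𝐍[A] →* Y := MonoidHom.mk' (fun a => ρ a) fun a b => h.mul a a.2 b b.2

theorem one : ρ 1 = 1 := map_one h.hom

theorem inv {a : G} (ha : a ∈ 𝐍[A]) : ρ a⁻¹ = (ρ a)⁻¹ := map_inv h.hom ⟨a, ha⟩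

theorem pow {a : G} (ha : a ∈ 𝐍[A]) (n : ℕ) : ρ (a ^ n) = ρ a ^ n := map_pow h.hom ⟨a, ha⟩ n

theorem conj {a b : G} (ha : a ∈ 𝐍[A]) (hb : b ∈ 𝐍[A]) : ρ (a * b * a⁻¹) = ρ a * ρ b * (ρ a)⁻¹ := by
  rw [h.mul _ (mul_mem ha hb) _ (inv_mem ha), h.mul a ha b hb, h.inv ha]

theorem com {a b : G} (ha : a ∈ 𝐍[A]) (hb : b ∈ 𝐍[A]) (e : a * b = b * a) :
    ρ a * ρ b = ρ b * ρ a := by rw [← h.mul a ha b hb, e, h.mul b hb a ha]

theorem sq {a : G} (ha : a ∈ 𝐍[A]) (e : a * a = 1) : ρ a * ρ a = 1 := by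
  rw [← h.mul a ha a ha, e, h.one]

theorem kerC {k : G} (hk : k ∈ 𝐂[A]) : ρ k = 1 := (h.ker k (centralizer_le_normalizer' A hk)).2 hk

theorem oddC {a : G} (ha : a ∈ A) (hc : a ∈ 𝐂[A]) : Odd (orderOf a) := h.odd a ha (h.kerC hc)

theorem div {a b : G} (ha : a ∈ 𝐍[A]) (hb : b ∈ 𝐍[A]) (e : ρ a = ρ b) : a⁻¹ * b ∈ 𝐂[A] :=
  (h.ker _ (mul_mem (inv_mem ha) hb)).1 (by rw [h.mul _ (inv_mem ha) _ hb, h.inv ha, e]; group)

theorem uq {a b : G} (ha : a ∈ A) (hb : b ∈ A) (a2 : Tw a) (b2 : Tw b) (e : ρ a = ρ b) : a = b := by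
  have c := h.div (le_normalizer ha) (le_normalizer hb) e
  refine inv_mul_eq_one.1 ((a2.inv.mul b2 ?_).eq_one (h.oddC (mul_mem (inv_mem ha) hb) c))
  have := mem_C.1 c a ha
  calc a⁻¹ * b = a * (a⁻¹ * b) * a⁻¹ := by rw [this]; group
    _ = _ := by group

theorem eq_one {a : G} (ha : a ∈ A) (a2 : Tw a) (e : ρ a = 1) : a = 1 := a2.eq_one (h.odd a ha e)

theorem conj_eq {m a b : G} (hm : m ∈ 𝐍[A]) (ha : a ∈ A) (hb : b ∈ A) (a2 : Tw a) (b2 : Tw b)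
    (e : ρ m * ρ a * (ρ m)⁻¹ = ρ b) : m * a * m⁻¹ = b :=
  h.uq (conj_mem_of_mem_normalizer hm ha) hb (a2.conj m) b2 (by rw [h.conj hm (le_normalizer ha), e])

theorem com_lift {m a : G} (hm : m ∈ 𝐍[A]) (ha : a ∈ A) (a2 : Tw a) (e : ρ m * ρ a = ρ a * ρ m) :
    m * a = a * m := conj_eq_iff.1 (h.conj_eq hm ha ha a2 a2 (conj_eq_iff.2 e))

theorem lift {p : ℕ} (hp : p.Prime) {y : Y} (hy : y ∈ Y₀) {k : ℕ} (e : y ^ p ^ k = 1) :
    ∃ a ∈ A, ρ a = y ∧ ∃ j, a ^ p ^ j = 1 := by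
  obtain ⟨a, ha, rfl⟩ := h.sur y hy
  obtain ⟨j, m, hm, e1⟩ := Nat.exists_eq_pow_mul_and_not_dvd (orderOf_pos a).ne' p hp.ne_one
  obtain ⟨n, hn⟩ := exists_pow_eq_self_of_coprime (x := ρ a) (n := m)
    (Nat.Coprime.coprime_dvd_right (orderOf_dvd_of_pow_eq_one e)
      (((Nat.Prime.coprime_iff_not_dvd hp).2 hm).symm.pow_right k))
  refine ⟨(a ^ m) ^ n, pow_mem (pow_mem ha _) _, ?_, j, ?_⟩
  · rw [h.pow (pow_mem (le_normalizer ha) _), h.pow (le_normalizer ha), hn]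
  · rw [← pow_mul, ← pow_mul, mul_comm n, ← mul_assoc, mul_comm m, ← e1, pow_mul, pow_orderOf_eq_one,
      one_pow]

theorem lift2 {y : Y} (hy : y ∈ Y₀) (e : y * y = 1) : ∃ a ∈ A, ρ a = y ∧ a * a = 1 := by
  obtain ⟨a, ha, rfl, a2⟩ := h.lift Nat.prime_two hy (k := 1) (by rwa [pow_one, _root_.sq])
  exact ⟨a, ha, rfl, h.eq_one (mul_mem ha ha) (Tw.mul a2 a2 rfl)
    (by rw [h.mul _ (le_normalizer ha) _ (le_normalizer ha), e])⟩

theorem dec {m : G} (hm : m ∈ 𝐍[A]) (e : ρ m ∈ Y₀) : ∃ a ∈ A, ∃ k ∈ 𝐂[A], m = a * k := by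
  obtain ⟨a, ha, e'⟩ := h.sur _ e
  exact ⟨a, ha, _, h.div (le_normalizer ha) hm e', by group⟩

/-- an involution inducing an inner automorphism -/
theorem dec2 {m : G} (hm : m ∈ 𝐍[A]) (e : ρ m ∈ Y₀) (h2 : m * m = 1) :
    ∃ a ∈ A, ∃ k ∈ 𝐂[A], a * a = 1 ∧ k * k = 1 ∧ ρ a = ρ m ∧ m = a * k := by
  obtain ⟨a, ha, e', a2⟩ := h.lift2 e (h.sq hm h2)
  have c := h.div (le_normalizer ha) hm e'
  refine ⟨a, ha, _, c, a2, ?_, e', by group⟩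
  have := mem_C.1 c a ha
  calc a⁻¹ * m * (a⁻¹ * m) = (a⁻¹ * m) * a * (a * a)⁻¹ * m := by group
    _ = 1 := by rw [← this, a2]; simpa using h2

theorem cj (g : G) : St cj(g, A) (fun x => ρ (g⁻¹ * x * g)) Y₀ := by
  have n : ∀ {x}, x ∈ 𝐍[cj(g, A)] → g⁻¹ * x * g ∈ 𝐍[A] := fun hx => by
    rwa [normalizer_cj, mem_cj] at hx
  refine ⟨fun a ha b hb => ?_, fun m hm => ?_, fun a ha => h.mem _ (mem_cj.1 ha), fun y hy => ?_,
    fun a ha e => ?_, by rw [commutator_cj, h.perf]⟩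
  · rw [← h.mul _ (n ha) _ (n hb)]; congr 1; group
  · rw [h.ker _ (n hm), centralizer_cj, mem_cj]
  · obtain ⟨a, ha, rfl⟩ := h.sur y hy
    exact ⟨_, conj_mem_cj g ha, by simp [mul_assoc]⟩
  · have := h.odd _ (mem_cj.1 ha) e
    rwa [show g⁻¹ * a * g = g⁻¹ * a * g⁻¹⁻¹ by group, orderOf_conj'] at this

/-- the image of a subgroup -/
def img (P : Subgroup G) : Subgroup Y := (P.subgroupOf 𝐍[A]).map h.hom

theorem mem_img {P : Subgroup G} (hP : P ≤ 𝐍[A]) {y : Y} : y ∈ h.img P ↔ ∃ x ∈ P, ρ x = y :=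
  ⟨fun ⟨x, hx, e⟩ => ⟨x, hx, e⟩, fun ⟨x, hx, e⟩ => ⟨⟨x, hP hx⟩, hx, e⟩⟩

theorem card_img {P : Subgroup G} (hP : P ≤ 𝐍[A]) :
    Nat.card P = Nat.card (h.img P) * Nat.card ↥(P ⊓ 𝐂[A]) := by
  let χ : P →* Y := h.hom.comp (inclusion hP)
  have e1 : χ.range = h.img P := by
    ext y
    rw [h.mem_img hP]
    exact ⟨fun ⟨x, e⟩ => ⟨x, x.2, e⟩, fun ⟨x, hx, e⟩ => ⟨⟨x, hx⟩, e⟩⟩
  have e2 : χ.ker = (P ⊓ 𝐂[A]).subgroupOf P := by
    ext x
    rw [mem_subgroupOf, mem_inf, ← h.ker _ (hP x.2)]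
    exact ⟨fun e => ⟨x.2, e⟩, fun e => e.2⟩
  rw [← χ.ker.index_mul_card, index_ker, e1, e2,
    Nat.card_congr (subgroupOfEquivOfLe inf_le_left).toEquiv]

theorem card_img' {P : Subgroup G} (hP : P ≤ 𝐍[A]) (h1 : ∀ x ∈ P, x ∈ 𝐂[A] → x = 1) :
    Nat.card P = Nat.card (h.img P) := by
  rw [h.card_img hP, show P ⊓ 𝐂[A] = ⊥ from eq_bot_iff.2 fun x hx =>
    h1 x (mem_inf.1 hx).1 (mem_inf.1 hx).2, card_bot, mul_one]

theorem pg_img {p : ℕ} {P : Subgroup G} (hP : IsPGroup p P) : IsPGroup p (h.img P) :=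
  (Amb.isPGroup_subgroupOf hP _).map _

theorem img_A : h.img A = Y₀ := by
  ext y
  rw [h.mem_img le_normalizer]
  exact ⟨fun ⟨x, hx, e⟩ => e ▸ h.mem x hx, h.sur y⟩

theorem syl_img {T L : Subgroup G} (hT : IsSyl 2 T L) (hL : L ≤ 𝐍[A]) :
    IsSyl 2 (h.img T) (h.img L) := by
  refine IsSyl.map (isSyl_of_not_dvd_relIndex (Amb.isPGroup_subgroupOf hT.pgrp _)
    (fun x hx => hT.le hx) ?_) _
  rw [relIndex_subgroupOf hL]
  exact hT.not_dvd_relIndex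

/-- a subgroup containing lifts of the generators -/
theorem gen {D : Set Y} {B : Subgroup G} (hD : ∀ y ∈ D, ∃ a ∈ A ⊓ B, ρ a = y) {y : Y}
    (hy : y ∈ closure D) : ∃ a ∈ A ⊓ B, ρ a = y :=
  (h.mem_img (inf_le_left.trans le_normalizer)).1
    ((closure_le _).2 (fun y hy => (h.mem_img (inf_le_left.trans le_normalizer)).2 (hD y hy)) hy)

/-- a `2`-element is in every subgroup containing some lift of its image -/
theorem tw_mem {B : Subgroup G} {a b : G} (ha : a ∈ A) (a2 : Tw a) (hb : b ∈ A ⊓ B)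
    (e : ρ b = ρ a) : a ∈ B := by
  have c := h.div (le_normalizer ha) (le_normalizer (mem_inf.1 hb).1) e.symm
  have o := h.oddC (mul_mem (inv_mem ha) (mem_inf.1 hb).1) c
  refine mem_of_pow_mem_of_coprime (n := orderOf (a⁻¹ * b)) ?_ ?_
  · have := pow_mem (mem_inf.1 hb).2 (orderOf (a⁻¹ * b))
    rwa [show b = a * (a⁻¹ * b) by group, (show Commute a (a⁻¹ * b) from mem_C.1 c a ha).mul_pow,
      mul_inv_cancel_left, pow_orderOf_eq_one, mul_one] at this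
  · obtain ⟨k, hk⟩ := a2
    exact Nat.Coprime.coprime_dvd_left (orderOf_dvd_of_pow_eq_one hk)
      ((Nat.coprime_two_left.2 o).pow_left k)

theorem le_of_sur {B : Subgroup G} (hB : ∀ y ∈ Y₀, ∃ a ∈ A ⊓ B, ρ a = y) : A ≤ B := by
  rw [← h.perf, commutator_le]
  intro a ha b hb
  obtain ⟨a', ha', e1⟩ := hB _ (h.mem a ha)
  obtain ⟨b', hb', e2⟩ := hB _ (h.mem b hb)
  have c1 := mem_C.1 (h.div (le_normalizer (mem_inf.1 ha').1) (le_normalizer ha) e1)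
  have c2 := mem_C.1 (h.div (le_normalizer (mem_inf.1 hb').1) (le_normalizer hb) e2)
  have : ⁅a, b⁆ = a' * b' * a'⁻¹ * b'⁻¹ := by
    have d1 := c1 b hb
    have d2 := c2 _ (inv_mem (mem_inf.1 ha').1)
    calc ⁅a, b⁆ = a' * (a'⁻¹ * a * b) * a⁻¹ * b⁻¹ := by rw [commutatorElement_def]; group
      _ = a' * b' * (b'⁻¹ * b * a'⁻¹) * b⁻¹ := by rw [← d1]; group
      _ = _ := by rw [← d2]; group
  rw [this]
  exact mul_mem (mul_mem (mul_mem (mem_inf.1 ha').2 (mem_inf.1 hb').2) (inv_mem (mem_inf.1 ha').2))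
    (inv_mem (mem_inf.1 hb').2)

end St

end Cfsg.Agent.G2S
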