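import Mathlib
import Cfsg.Agent.Wr.Base
import Cfsg.Agent.PF.Main

/-! Copy of `Wr/FinA` without the bound on `W`. The end of the wreath theorem: a Sylow subgroup `T₁ × T₂` with doubled fusion. -/

set_option autoImplicit false
set_option linter.unusedSectionVars false
set_option linter.unusedVariables false

namespace Cfsg.Agent.G2S.W

open Cfsg Subgroup Cfsg.Agent.PLocal Cfsg.Agent.PLocal.Amb Cfsg.Agent.Lyons Cfsg.Agent.Wr
open scoped commutatorElement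

universe u
variable {G : Type u} [Group G] [Finite G]

/-- The `2`-local data of one factor. -/
structure Dat (B T W : Subgroup G) (z y : G) (j : ℕ) : Prop where
  perf : ⁅B, B⁆ = B
  syl : IsSyl 2 T B
  zT : z ∈ T
  z1 : z ≠ 1
  zc : ∀ u ∈ T, u * z = z * u
  cen : ∀ x ∈ T, (∀ u ∈ T, u * x = x * u) → x = 1 ∨ x = z
  WT : W ≤ T
  Wn : T ≤ 𝐍[W]
  Wc : ∀ a ∈ W, ∀ b ∈ W, a * b = b * a
  Wself : ∀ x ∈ T, (∀ w ∈ W, w * x = x * w) → x ∈ W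
  c3 : 2 < Nat.card T
  yz : y = z
  Wgen : W ≤ closure {x | x ∈ W ∧ ∃ b ∈ B, x = b * z * b⁻¹}
  yW : y ∈ W
  cls : ∀ x ∈ B, x * x = 1 → x ≠ 1 → ∃ b ∈ B, b * x * b⁻¹ = z ∨ b * x * b⁻¹ = y
  idx : Nat.card T ≤ 2 ^ j * Nat.card ↥(T ⊓ 𝐳[y])
  big : ∃ u ∈ T, u ^ 2 ^ (j + 1) ≠ 1

namespace Dat
variable {B T W : Subgroup G} {z y : G} {j : ℕ} (d : Dat B T W z y j)
include d

theorem zz : z * z = 1 := by
  rcases d.cen (z * z) (mul_mem d.zT d.zT) fun u hu => by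
    rw [← mul_assoc, d.zc u hu, mul_assoc, d.zc u hu, mul_assoc] with h | h
  · exact h
  · exact absurd (mul_left_cancel (h.trans (mul_one z).symm)) d.z1

theorem zW : z ∈ W := d.Wself z d.zT fun w hw => d.zc w (d.WT hw)

theorem nonab : ∃ a ∈ T, ∃ b ∈ T, a * b ≠ b * a := by
  by_contra h
  push Not at h
  obtain ⟨u, hu, hu'⟩ := d.big
  apply hu'
  have : u ^ 2 = 1 := by
    rcases d.cen u hu fun v hv => h v hv u hu with rfl | rfl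
    · simp
    · rw [sq, d.zz]
  rw [pow_succ', pow_mul, this, one_pow]

theorem mem_of_norm {M : Subgroup G} (h : M ≤ T) (hn : T ≤ 𝐍[M]) (h1 : M ≠ ⊥) : z ∈ M := by
  have := inf_centralizer_ne_bot d.syl.pgrp (d.syl.pgrp.to_le h) hn h1
  obtain ⟨⟨x, hx⟩, hx1⟩ := (Subgroup.ne_bot_iff_exists_ne_one).1 this
  rcases d.cen x (h (mem_inf.1 hx).1) (mem_C.1 (mem_inf.1 hx).2) with e | e
  · exact absurd (Subtype.ext e) hx1
  · exact e ▸ (mem_inf.1 hx).1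

theorem into {x : G} (hx : x ∈ B) (h2 : x * x = 1) :
    ∃ b ∈ B, b * x * b⁻¹ = 1 ∨ b * x * b⁻¹ = z ∨ b * x * b⁻¹ = y := by
  by_cases h : x = 1
  · exact ⟨1, one_mem _, Or.inl (by simp [h])⟩
  · obtain ⟨b, hb, h⟩ := d.cls x hx h2 h
    exact ⟨b, hb, Or.inr h⟩

theorem intoW {x : G} (hx : x ∈ B) (h2 : x * x = 1) : ∃ b ∈ B, b * x * b⁻¹ ∈ W := by
  obtain ⟨b, hb, h | h | h⟩ := d.into hx h2
  · exact ⟨b, hb, h ▸ one_mem _⟩
  · exact ⟨b, hb, h ▸ d.zW⟩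
  · exact ⟨b, hb, h ▸ d.yW⟩

theorem hom {B' T' W' : Subgroup G} {z' y' : G} (d' : Dat B' T' W' z' y' j)
    (hc : Nat.card T = Nat.card T') {f : G → G} (hf : ∀ u ∈ T, f u ∈ T')
    (hm : ∀ u ∈ T, ∀ v ∈ T, f (u * v) = f u * f v) :
    f z = 1 ∨ (f z = z' ∧ ∀ v ∈ T', ∃ u ∈ T, f u = v) := by
  let φ : T →* T' := MonoidHom.mk' (fun u => ⟨f u, hf u u.2⟩)
    fun a b => Subtype.ext (hm a a.2 b b.2)
  by_cases hk : φ.ker = ⊥
  · have hi : Function.Injective φ := (MonoidHom.ker_eq_bot_iff φ).1 hk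
    have hs := (hi.bijective_of_nat_card_le hc.ge).2
    have hs' : ∀ v ∈ T', ∃ u ∈ T, f u = v := fun v hv => by
      obtain ⟨u, hu⟩ := hs ⟨v, hv⟩
      exact ⟨u, u.2, congrArg Subtype.val hu⟩
    rcases d'.cen (f z) (hf z d.zT) fun v hv => by
      obtain ⟨u, hu, rfl⟩ := hs' v hv
      rw [← hm u hu z d.zT, ← hm z d.zT u hu, d.zc u hu] with h | h
    · exact Or.inl h
    · exact Or.inr ⟨h, hs'⟩
  · left
    have h1 : φ.ker.map T.subtype ≠ ⊥ := fun h => hk ((map_eq_bot_iff_of_injective _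
      T.subtype_injective).1 h)
    obtain ⟨u, hu, e⟩ := d.mem_of_norm (map_subtype_le _) (le_normalizer_map_subtype _) h1
    have := congrArg Subtype.val (MonoidHom.mem_ker.1 hu)
    exact e ▸ this

end Dat

/-- Two commuting factors interchanged by `t`. -/
structure Two (X : Subgroup G) (t : G) (B₁ T₁ W₁ : Subgroup G) (z₁ y₁ : G) (B₂ T₂ W₂ : Subgroup G)
    (z₂ y₂ : G) (j : ℕ) (S : Subgroup G) : Prop where
  d₁ : Dat B₁ T₁ W₁ z₁ y₁ j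
  d₂ : Dat B₂ T₂ W₂ z₂ y₂ j
  le₁ : B₁ ≤ X
  le₂ : B₂ ≤ X
  comm : ∀ a ∈ B₁, ∀ b ∈ B₂, a * b = b * a
  disj : ∀ a ∈ T₁, a ∈ T₂ → a = 1
  tt : t * t = 1
  tX : t ∈ 𝐍[X]
  tz : t * z₁ * t⁻¹ = z₂
  ty : t * y₁ * t⁻¹ = y₂
  card : Nat.card T₁ = Nat.card T₂
  eq : S = T₁ ⊔ T₂
  syl : IsSyl 2 S X

theorem conj_conj_of_sq {t a b : G} (ht : t * t = 1) (h : t * a * t⁻¹ = b) : t * b * t⁻¹ = a := by
  rw [← h, show t * (t * a * t⁻¹) * t⁻¹ = (t * t) * a * (t * t)⁻¹ by group, ht]; group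

namespace Two
variable {X : Subgroup G} {t : G} {B₁ T₁ W₁ : Subgroup G} {z₁ y₁ : G} {B₂ T₂ W₂ : Subgroup G}
  {z₂ y₂ : G} {j : ℕ} {S : Subgroup G} (h : Two X t B₁ T₁ W₁ z₁ y₁ B₂ T₂ W₂ z₂ y₂ j S)
include h

theorem symm : Two X t B₂ T₂ W₂ z₂ y₂ B₁ T₁ W₁ z₁ y₁ j S :=
  ⟨h.d₂, h.d₁, h.le₂, h.le₁, fun a ha b hb => (h.comm b hb a ha).symm,
    fun a h2 h1 => h.disj a h1 h2, h.tt, h.tX, conj_conj_of_sq h.tt h.tz,
    conj_conj_of_sq h.tt h.ty, h.card.symm, by rw [h.eq, sup_comm], h.syl⟩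

theorem commT {a b : G} (ha : a ∈ T₁) (hb : b ∈ T₂) : a * b = b * a :=
  h.comm a (h.d₁.syl.le ha) b (h.d₂.syl.le hb)

theorem l₁ : T₁ ≤ S := h.eq.ge.trans' le_sup_left
theorem l₂ : T₂ ≤ S := h.symm.l₁

theorem proj : ∃ P Q : G → G, (∀ x ∈ S, P x ∈ T₁ ∧ Q x ∈ T₂ ∧ x = P x * Q x) ∧
      (∀ a ∈ T₁, ∀ b ∈ T₂, P (a * b) = a ∧ Q (a * b) = b) ∧
      ∀ x ∈ S, ∀ y ∈ S, P (x * y) = P x * P y ∧ Q (x * y) = Q x * Q y :=
  exists_proj h.eq (fun a ha b hb => h.commT ha hb) h.disj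

theorem dec {x : G} (hx : x ∈ S) : ∃ a ∈ T₁, ∃ b ∈ T₂, x = a * b := by
  obtain ⟨P, Q, h1, -⟩ := h.proj
  exact ⟨_, (h1 x hx).1, _, (h1 x hx).2.1, (h1 x hx).2.2⟩

theorem uq {a b : G} (ha : a ∈ T₁) (hb : b ∈ T₂) (e : a * b ∈ T₁) : b = 1 :=
  h.disj b (by simpa using mul_mem (inv_mem ha) e) hb

theorem sq {a b : G} (ha : a ∈ T₁) (hb : b ∈ T₂) : a * b * (a * b) = a * a * (b * b) := by
  rw [mul_assoc, ← mul_assoc b, ← h.commT ha hb]; group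

theorem zC : z₁ ∈ 𝐂[S] := mem_C.2 fun x hx => by
  obtain ⟨a, ha, b, hb, rfl⟩ := h.dec hx
  rw [mul_assoc, ← h.commT h.d₁.zT hb, ← mul_assoc, h.d₁.zc a ha, mul_assoc]

theorem z_ne : z₁ ≠ z₂ := fun e => h.d₁.z1 (h.disj _ h.d₁.zT (e ▸ h.d₂.zT))

theorem cen₁ {a b : G} (ha : a ∈ T₁) (hb : b ∈ T₂) {u : G} (hu : u ∈ T₁)
    (hc : u * (a * b) * u⁻¹ * (a * b)⁻¹ = 1 ∨ u * (a * b) * u⁻¹ * (a * b)⁻¹ = z₁ * z₂) :
    u * a = a * u := by
  have e : u * (a * b) * u⁻¹ * (a * b)⁻¹ = u * a * u⁻¹ * a⁻¹ := by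
    rw [show u * (a * b) * u⁻¹ = u * a * (b * u⁻¹) by group, ← h.commT (inv_mem hu) hb]; group
  rw [e] at hc
  rcases hc with hc | hc
  · rw [mul_inv_eq_one, mul_inv_eq_iff_eq_mul] at hc; exact hc
  · have : z₁ * z₂ ∈ T₁ := hc ▸ mul_mem (mul_mem (mul_mem hu ha) (inv_mem hu)) (inv_mem ha)
    exact absurd (h.uq h.d₁.zT h.d₂.zT this) h.d₂.z1

theorem cenS {x : G} (hx : x ∈ S) (hc : x ∈ 𝐂[S]) : x = 1 ∨ x = z₁ ∨ x = z₂ ∨ x = z₁ * z₂ := by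
  obtain ⟨a, ha, b, hb, rfl⟩ := h.dec hx
  have h1 := h.d₁.cen a ha fun u hu => h.cen₁ ha hb hu (Or.inl (by
    rw [mem_C.1 hc u (h.l₁ hu)]; group))
  have h2 := h.d₂.cen b hb fun u hu => h.symm.cen₁ hb ha hu (Or.inl (by
    rw [← h.commT ha hb, mem_C.1 hc u (h.l₂ hu)]; group))
  rcases h1 with rfl | rfl <;> rcases h2 with rfl | rfl <;> simp

theorem nz {n : G} (hn : n ∈ 𝐍[S]) : n * z₁ * n⁻¹ ≠ z₁ * z₂ := by
  intro e
  obtain ⟨a, ha, b, hb, hab⟩ := h.d₁.nonab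
  obtain ⟨x, hx, ⟨v, hv, hv'⟩, hx'⟩ := exists_z2 h.d₁.syl.pgrp ha hb hab
  obtain ⟨c, hc, e', he, hce⟩ := h.dec (conj_mem_of_mem_normalizer hn (h.l₁ hx))
  have key : ∀ u ∈ S, u * (c * e') * u⁻¹ * (c * e')⁻¹ = 1 ∨
      u * (c * e') * u⁻¹ * (c * e')⁻¹ = z₁ * z₂ := by
    intro u hu
    obtain ⟨p, hp, q, hq, hpq⟩ := h.dec (inv_conj_mem_of_mem_normalizer hn hu)
    have e1 : u * (c * e') * u⁻¹ * (c * e')⁻¹ = n * (p * x * p⁻¹ * x⁻¹) * n⁻¹ := by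
      have e2 : u = n * (p * q) * n⁻¹ := by rw [← hpq]; group
      rw [← hce, e2, show n * (p * q) * n⁻¹ * (n * x * n⁻¹) * (n * (p * q) * n⁻¹)⁻¹ *
        (n * x * n⁻¹)⁻¹ = n * (p * (q * x) * q⁻¹ * p⁻¹ * x⁻¹) * n⁻¹ by group, ← h.commT hx hq]
      group
    rw [e1]
    rcases h.d₁.cen _ (mul_mem (mul_mem (mul_mem hp hx) (inv_mem hp)) (inv_mem hx))
      (mem_C.1 (hx' p hp)) with h1 | h1
    · left; rw [h1]; group
    · right; rw [h1, e]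
  have hcen : ∀ u ∈ S, u * (c * e') = c * e' * u := by
    intro u hu
    obtain ⟨p, hp, q, hq, rfl⟩ := h.dec hu
    have h1 := h.cen₁ hc he hp (key p (h.l₁ hp))
    have h2 := h.symm.cen₁ he hc hq (by
      rw [← h.commT hc he, ← h.commT h.d₁.zT h.d₂.zT]; exact key q (h.l₂ hq))
    calc p * q * (c * e') = p * (q * c) * e' := by group
      _ = (p * c) * (q * e') := by rw [← h.commT hc hq]; group
      _ = c * (p * e') * q := by rw [h1, h2]; group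
      _ = c * e' * (p * q) := by rw [h.commT hp he]; group
  apply hv'
  have := hcen _ (conj_mem_of_mem_normalizer hn (h.l₁ hv))
  rw [← hce] at this
  apply conj_inj (g := n)
  rw [show n * (v * x) * n⁻¹ = n * v * n⁻¹ * (n * x * n⁻¹) by group, this]; group

theorem nf {g : G} (hg : g ∈ X) (hS : g * z₁ * g⁻¹ ∈ S) (hc : g * z₁ * g⁻¹ ∈ 𝐂[S]) :
    g * z₁ * g⁻¹ = z₁ := by
  obtain ⟨n, hn, e⟩ := fus h.syl h.zC hg hc
  obtain ⟨hnX, hn⟩ := mem_inf.1 hn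
  rw [← e] at hS hc ⊢
  rcases h.cenS hS hc with h1 | h1 | h1 | h1
  · exact absurd (conj_inj (g := n) (by rw [h1]; group)) h.d₁.z1
  · exact h1
  · exfalso
    have h2 : n * z₂ * n⁻¹ = z₁ := by
      rcases h.cenS (conj_mem_of_mem_normalizer hn (h.l₂ h.d₂.zT))
        (conj_mem_of_mem_normalizer (normalizer_le_normalizer_centralizer S hn) h.symm.zC) with
        h2 | h2 | h2 | h2
      · exact absurd (conj_inj (g := n) (by rw [h2]; group)) h.d₂.z1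
      · exact h2
      · exact absurd (conj_inj (h1.trans h2.symm)) h.z_ne
      · exact absurd (h2.trans (h.commT h.d₁.zT h.d₂.zT)) (h.symm.nz hn)
    have h3 : ∀ m : ℕ, n ^ (2 * m + 1) * z₁ * (n ^ (2 * m + 1))⁻¹ = z₂ := by
      intro m
      induction m with
      | zero => simpa using h1
      | succ m ih =>
        rw [show n ^ (2 * (m + 1) + 1) * z₁ * (n ^ (2 * (m + 1) + 1))⁻¹ =
          n * (n * (n ^ (2 * m + 1) * z₁ * (n ^ (2 * m + 1))⁻¹) * n⁻¹) * n⁻¹ by group, ih, h2, h1]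
    obtain ⟨m, ⟨k, rfl⟩, hm⟩ := exists_odd_pow h.syl hnX hn
    have := h3 k
    rw [mem_C.1 h.zC _ hm, mul_inv_cancel_right] at this
    exact h.z_ne this
  · exact absurd h1 (h.nz hn)

theorem k1 {g : G} (hg : g ∈ X) (hT : cj(g, T₁) ≤ S) : g * z₁ * g⁻¹ = z₁ := by
  obtain ⟨P, Q, h1, -, h3⟩ := h.proj
  have hm : ∀ u ∈ T₁, g * u * g⁻¹ ∈ S := fun u hu => hT (conj_mem_cj g hu)
  have hmul : ∀ u v : G, g * (u * v) * g⁻¹ = g * u * g⁻¹ * (g * v * g⁻¹) := fun u v => by group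
  have a1 := h.d₁.hom h.d₁ rfl (f := fun u => P (g * u * g⁻¹)) (fun u hu => (h1 _ (hm u hu)).1)
    fun u hu v hv => by simp only [hmul]; exact (h3 _ (hm u hu) _ (hm v hv)).1
  have a2 := h.d₁.hom h.d₂ h.card (f := fun u => Q (g * u * g⁻¹))
    (fun u hu => (h1 _ (hm u hu)).2.1)
    fun u hu v hv => by simp only [hmul]; exact (h3 _ (hm u hu) _ (hm v hv)).2
  refine h.nf hg (hm _ h.d₁.zT) ?_
  rw [(h1 _ (hm _ h.d₁.zT)).2.2]
  refine mul_mem ?_ ?_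
  · rcases a1 with a | a
    · rw [a]; exact one_mem _
    · rw [a.1]; exact h.zC
  · rcases a2 with a | a
    · rw [a]; exact one_mem _
    · rw [a.1]; exact h.symm.zC

theorem not_fused {g : G} (hg : g ∈ X) : g * z₁ * g⁻¹ ≠ z₂ := fun e =>
  h.z_ne ((h.nf hg (e ▸ h.l₂ h.d₂.zT) (e ▸ h.symm.zC)).symm.trans e)

/-- an element conjugate to `z₁` can be moved to `z₁` together with its centraliser in `S` -/
theorem ext {g : G} (hg : g ∈ X) : ∃ k ∈ X, k * (g * z₁ * g⁻¹) * k⁻¹ = z₁ ∧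
    cj(k, S ⊓ 𝐳[g * z₁ * g⁻¹]) ≤ S := by
  obtain ⟨y, hy⟩ := extremal h.syl z₁
  obtain ⟨k, hk, e, hk'⟩ := hy 1 (one_mem _)
  rw [one_mul, inv_one, mul_one] at e hk'
  have := h.k1 hk ((cj_mono k (le_inf h.l₁ fun u hu => mem_z.2 (h.d₁.zc u hu))).trans hk')
  have e' : y = z₁ := e.symm.trans this
  subst e'
  exact hy g hg

theorem not_yz {g : G} (hg : g ∈ X) : g * z₁ * g⁻¹ ≠ y₁ * z₂ := by
  intro e
  obtain ⟨k, hk, e1, hk'⟩ := h.ext hg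
  rw [e] at e1 hk'
  have y1 : y₁ ∈ T₁ := h.d₁.WT h.d₁.yW
  have hT : cj(k, T₂) ≤ S := (cj_mono k (le_inf h.l₂ fun u hu => mem_z.2 (by
    rw [← mul_assoc, ← h.commT y1 hu, mul_assoc, h.d₂.zc u hu, mul_assoc]))).trans hk'
  have e2 := h.symm.k1 hk hT
  obtain ⟨P, Q, h1, h2, h3⟩ := h.proj
  have hm : ∀ u ∈ T₂, k * u * k⁻¹ ∈ S := fun u hu => hT (conj_mem_cj k hu)
  have hmul : ∀ u v : G, k * (u * v) * k⁻¹ = k * u * k⁻¹ * (k * v * k⁻¹) := fun u v => by group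
  have hQ : Q z₂ = z₂ := by simpa using (h2 1 (one_mem _) _ h.d₂.zT).2
  have hP : P z₂ = 1 := by simpa using (h2 1 (one_mem _) _ h.d₂.zT).1
  have a2 := h.d₂.hom h.d₂ rfl (f := fun u => Q (k * u * k⁻¹)) (fun u hu => (h1 _ (hm u hu)).2.1)
    fun u hu v hv => by simp only [hmul]; exact (h3 _ (hm u hu) _ (hm v hv)).2
  simp only [e2, hQ] at a2
  have hs := (a2.resolve_left h.d₂.z1).2
  set C := T₁ ⊓ 𝐳[y₁] with hC
  have hc : ∀ c ∈ C, k * c * k⁻¹ ∈ S := fun c hc => hk' (conj_mem_cj k (mem_inf.2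
    ⟨h.l₁ (mem_inf.1 hc).1, mem_z.2 (by
      rw [← mul_assoc, mem_z.1 (mem_inf.1 hc).2, mul_assoc, h.commT (mem_inf.1 hc).1 h.d₂.zT,
        mul_assoc])⟩))
  have hl : ∀ c ∈ C, Q (k * c * k⁻¹) = 1 ∨ Q (k * c * k⁻¹) = z₂ := fun c hc' =>
    h.d₂.cen _ (h1 _ (hc c hc')).2.1 fun v hv => by
      obtain ⟨u, hu, rfl⟩ := hs v hv
      rw [← (h3 _ (hm u hu) _ (hc c hc')).2, ← (h3 _ (hc c hc') _ (hm u hu)).2,
        conj_comm (h.commT (mem_inf.1 hc').1 hu)]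
  let μ : C →* G := MonoidHom.mk' (fun c => P (k * c * k⁻¹)) fun a b => by
    simp only [Subgroup.coe_mul, hmul]; exact (h3 _ (hc a a.2) _ (hc b b.2)).1
  let lam : C →* G := MonoidHom.mk' (fun c => Q (k * c * k⁻¹)) fun a b => by
    simp only [Subgroup.coe_mul, hmul]; exact (h3 _ (hc a a.2) _ (hc b b.2)).2
  have hi : Function.Injective μ := by
    rw [injective_iff_map_eq_one]
    intro c hc1
    have e3 := (h1 _ (hc c c.2)).2.2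
    rw [show P (k * c * k⁻¹) = 1 from hc1, one_mul] at e3
    apply Subtype.ext
    rcases hl c c.2 with h4 | h4
    · exact conj_inj (g := k) (by rw [e3, h4]; simp)
    · rw [h4, ← e2] at e3
      have e4 := conj_inj e3
      exact h.disj _ (mem_inf.1 c.2).1 (e4 ▸ h.d₂.zT)
  have hr : μ.range ≤ T₁ := by
    rintro _ ⟨c, rfl⟩; exact (h1 _ (hc c c.2)).1
  have hcard : Nat.card T₁ ≤ 2 ^ j * Nat.card μ.range := by
    rw [← Nat.card_congr (MonoidHom.ofInjective hi).toEquiv]; exact h.d₁.idx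
  set N := closure {x | ∃ v ∈ T₁, x = v ^ 2 ^ (j + 1)} with hN
  have hN1 : N ≤ lam.ker.map μ := by
    rw [hN, closure_le]
    rintro _ ⟨v, hv, rfl⟩
    obtain ⟨c, hc1⟩ := pow_mem_of_card h.d₁.syl.pgrp hr hcard hv
    refine ⟨c * c, ?_, by rw [map_mul, hc1, pow_succ, pow_mul, _root_.sq]⟩
    show lam (c * c) = 1
    rw [map_mul]
    rcases hl c c.2 with h4 | h4
    · rw [show lam c = 1 from h4, one_mul]
    · rw [show lam c = z₂ from h4, h.d₂.zz]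
  have hz : z₁ ∈ N := by
    refine h.d₁.mem_of_norm ((hN1.trans (map_le_range _ _)).trans hr) ?_ ?_
    · rw [le_normalizer_iff_cj]
      intro a ha
      rw [hN, MonoidHom.map_closure, closure_le]
      rintro _ ⟨_, ⟨v, hv, rfl⟩, rfl⟩
      exact subset_closure ⟨a * v * a⁻¹, mul_mem (mul_mem ha hv) (inv_mem ha), by
        simp [conj_pow]⟩
    · obtain ⟨u, hu, hu'⟩ := h.d₁.big
      exact fun e => hu' (mem_bot.1 (e ▸ subset_closure ⟨u, hu, rfl⟩))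
  have yC : y₁ ∈ C := mem_inf.2 ⟨y1, mem_z.2 rfl⟩
  have e5 : k * y₁ * k⁻¹ = z₁ * z₂ := by
    rw [hmul, e2] at e1
    rw [← e1, mul_assoc _ z₂, h.d₂.zz, mul_one]
  obtain ⟨c, hc1, hc2⟩ := hN1 hz
  have : c = ⟨y₁, yC⟩ := hi (by
    rw [hc2]; show z₁ = P (k * y₁ * k⁻¹); rw [e5, (h2 _ h.d₁.zT _ h.d₂.zT).1])
  have e6 : Q (k * y₁ * k⁻¹) = 1 := by
    have := MonoidHom.mem_ker.1 hc1
    subst ‹c = _›
    exact this
  rw [e5, (h2 _ h.d₁.zT _ h.d₂.zT).2] at e6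
  exact h.d₂.z1 e6

theorem sq_one {a b : G} (ha : a ∈ T₁) (hb : b ∈ T₂) (e : a * b * (a * b) ∈ T₁) : b * b = 1 := by
  rw [h.sq ha hb] at e
  exact h.uq (mul_mem ha ha) (mul_mem hb hb) e

/-- the conjugates of `z₁` in `S` lie in `T₁` -/
theorem beta {g : G} (hg : g ∈ X) (hS : g * z₁ * g⁻¹ ∈ S) : g * z₁ * g⁻¹ ∈ T₁ := by
  obtain ⟨a, ha, b, hb, e⟩ := h.dec hS
  have h0 : a * b * (a * b) = 1 := e ▸ conj_sq h.d₁.zz
  have hb2 := h.sq_one ha hb (h0 ▸ one_mem _)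
  have ha2 := h.symm.sq_one hb ha (by rw [← h.commT ha hb, h0]; exact one_mem _)
  obtain ⟨p, hp, hp'⟩ := h.d₁.into (h.d₁.syl.le ha) ha2
  obtain ⟨q, hq, hq'⟩ := h.d₂.into (h.d₂.syl.le hb) hb2
  have hg' : p * q * g ∈ X := mul_mem (mul_mem (h.le₁ hp) (h.le₂ hq)) hg
  have e1 : p * q * g * z₁ * (p * q * g)⁻¹ = p * a * p⁻¹ * (q * b * q⁻¹) := by
    have c1 := h.comm a (h.d₁.syl.le ha) q hq
    have c2 := h.comm p⁻¹ (inv_mem hp) _ (mul_mem (mul_mem hq (h.d₂.syl.le hb)) (inv_mem hq))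
    calc p * q * g * z₁ * (p * q * g)⁻¹ = p * q * (g * z₁ * g⁻¹) * q⁻¹ * p⁻¹ := by group
      _ = p * (q * a) * b * q⁻¹ * p⁻¹ := by rw [e]; group
      _ = p * a * (q * b * q⁻¹ * p⁻¹) := by rw [← c1]; group
      _ = _ := by rw [← c2]; group
  have hb' : q * b * q⁻¹ ∈ T₂ := by
    rcases hq' with h1 | h1 | h1 <;> rw [h1]
    exacts [one_mem _, h.d₂.zT, h.d₂.WT h.d₂.yW]
  suffices q * b * q⁻¹ = 1 by
    rw [e, conj_inj (g := q) (a := b) (b := 1) (by rw [this]; group), mul_one]; exact ha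
  have cen : ∀ w ∈ T₁, (∀ u ∈ T₁, u * w = w * u) → p * a * p⁻¹ = w → q * b * q⁻¹ = 1 := by
    intro w hw hc e2
    obtain ⟨k, hk, e3, hk'⟩ := h.ext hg'
    have := h.k1 hk ((cj_mono k (le_inf h.l₁ fun u hu => mem_z.2 (by
      rw [e1, e2, ← mul_assoc, hc u hu, mul_assoc, h.commT hu hb', mul_assoc w]))).trans hk')
    rw [e1, e2] at e3
    exact h.uq hw hb' (conj_inj (e3.trans this.symm) ▸ h.d₁.zT)
  rcases hp' with h1 | h1 | h1
  · exact cen 1 (one_mem _) (by simp) h1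
  · exact cen z₁ h.d₁.zT h.d₁.zc h1
  rcases hq' with h2 | h2 | h2
  · exact h2
  · rw [h1, h2] at e1
    exact absurd e1 (h.not_yz hg')
  · exfalso
    rw [h1, h2] at e1
    have e2 : t * (y₁ * y₂) * t⁻¹ = y₁ * y₂ := by
      rw [show t * (y₁ * y₂) * t⁻¹ = t * y₁ * t⁻¹ * (t * y₂ * t⁻¹) by group, h.ty, h.symm.ty,
        h.commT (h.d₁.WT h.d₁.yW) (h.d₂.WT h.d₂.yW)]
    set k := p * q * g
    refine h.not_fused (g := (t * k * t⁻¹)⁻¹ * k)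
      (mul_mem (inv_mem (conj_mem_of_mem_normalizer h.tX hg')) hg') ?_
    rw [← h.tz]
    calc (t * k * t⁻¹)⁻¹ * k * z₁ * ((t * k * t⁻¹)⁻¹ * k)⁻¹ =
        t * k⁻¹ * t⁻¹ * (k * z₁ * k⁻¹) * t * k * t⁻¹ := by group
      _ = t * k⁻¹ * t⁻¹ * (t * (k * z₁ * k⁻¹) * t⁻¹) * t * k * t⁻¹ := by rw [e1, e2]
      _ = _ := by group

theorem cj_W {k : G} (hk : k ∈ X) (hW : cj(k, W₁) ≤ S) : cj(k, W₁) ≤ T₁ := by
  rw [cj_le_iff]
  refine h.d₁.Wgen.trans ((closure_le _).2 ?_)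
  rintro x ⟨hx, b, hb, rfl⟩
  have := hW (conj_mem_cj k hx)
  rw [show k * (b * z₁ * b⁻¹) * k⁻¹ = k * b * z₁ * (k * b)⁻¹ by group] at this
  have := h.beta (mul_mem hk (h.le₁ hb)) this
  rw [SetLike.mem_coe, mem_cj]
  convert this using 1
  group

theorem lemC {k : G} (hk : k ∈ X) (hW : cj(k, W₂) ≤ S) {x : G} (hx : x ∈ B₁)
    (hx' : k * x * k⁻¹ ∈ S) : k * x * k⁻¹ ∈ T₁ := by
  have hW2 := h.symm.cj_W hk hW
  set V := cj(k, W₂) with hV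
  set L := X ⊓ 𝐂[V] with hL
  have hB : ∀ U : Subgroup G, U ≤ T₂ → B₁ ≤ X ⊓ 𝐂[U] := fun U hU => le_inf h.le₁ fun b hb =>
    mem_C.2 fun w hw => (h.comm b hb w (h.d₂.syl.le (hU hw))).symm
  have hSn : S ≤ 𝐍[W₂] := by
    rw [h.eq]
    exact sup_le (h.d₁.syl.le.trans (((hB W₂ h.d₂.WT).trans inf_le_right).trans
      (centralizer_le_normalizer' _))) h.d₂.Wn
  have s1 : IsSyl 2 (S ⊓ 𝐂[W₂]) (X ⊓ 𝐂[W₂]) := by
    have := (h.syl.mono (le_inf h.syl.le hSn) inf_le_left).inf (N := 𝐂[W₂])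
      (inf_le_right.trans (normalizer_le_normalizer_centralizer _))
    refine this.mono (this.le.trans ?_) ?_
    · exact inf_le_inf_right _ inf_le_left
    · exact le_inf (le_inf inf_le_left (inf_le_right.trans (centralizer_le_normalizer' _)))
        inf_le_right
  have s2 : S ⊓ 𝐂[W₂] ≤ T₁ ⊔ W₂ := fun u hu => by
    obtain ⟨a, ha, b, hb, rfl⟩ := h.dec (mem_inf.1 hu).1
    refine mul_mem (mem_sup_left ha) (mem_sup_right (h.d₂.Wself b hb fun w hw => ?_))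
    have := mem_C.1 (mem_inf.1 hu).2 w hw
    rw [← mul_assoc, ← h.commT ha (h.d₂.WT hw), mul_assoc, mul_assoc] at this
    exact mul_left_cancel this
  have cU : ∀ U : Subgroup G, U ≤ T₂ → Nat.card ↥(T₁ ⊔ U) = Nat.card T₁ * Nat.card U :=
    fun U hU => card_sup_of (fun a ha b hb => h.commT ha (hU hb))
      fun a ha hb => h.disj a ha (hU hb)
  have hVc : V ≤ 𝐂[V] := by
    rw [hV, centralizer_cj]
    exact cj_mono k fun a ha => mem_C.2 fun b hb => h.d₂.Wc b hb a ha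
  have hPL : T₁ ⊔ V ≤ L :=
    sup_le (h.d₁.syl.le.trans (hB V hW2)) (le_inf (hW.trans h.syl.le) hVc)
  have hPS : T₁ ⊔ V ≤ S := sup_le h.l₁ hW
  have eL : cj(k, X ⊓ 𝐂[W₂]) = L := by rw [cj_inf, cj_of_mem hk, hL, hV, centralizer_cj]
  have s3 : IsSyl 2 (T₁ ⊔ V) L := by
    have := s1.cj k
    rw [eL] at this
    refine this.of_card_ge (h.syl.pgrp.to_le hPS) hPL ?_
    rw [card_cj, cU V hW2, hV, card_cj, ← cU W₂ h.d₂.WT]
    exact card_le_of_le s2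
  have x1 : k * x * k⁻¹ ∈ ⁅L, L⁆ := by
    rw [← eL, commutator_cj]
    refine conj_mem_cj k (commutator_mono (hB W₂ h.d₂.WT) (hB W₂ h.d₂.WT) ?_)
    rw [h.d₁.perf]; exact hx
  have x2 : k * x * k⁻¹ ∈ T₁ ⊔ V := by
    rw [← s3.eq (h.syl.pgrp.to_le (inf_le_left : S ⊓ L ≤ S)) (le_inf hPS hPL) inf_le_right]
    exact mem_inf.2 ⟨hx', commutator_le_self L x1⟩
  have hn : V ≤ 𝐍[T₁] := fun b hb =>
    centralizer_le_normalizer' T₁ (mem_C.2 fun a ha => h.commT ha (hW2 hb))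
  obtain ⟨a, ha, w, hw, e⟩ := (mem_sup_of_le_normalizer_left hn).1 x2
  have a1 : a ∈ ⁅L, L⁆ := commutator_mono (hB V hW2) (hB V hW2) (by
    rw [h.d₁.perf]; exact h.d₁.syl.le ha)
  have w1 : w ∈ ⁅L, L⁆ := by
    have := mul_mem (inv_mem a1) x1
    rwa [e, inv_mul_cancel_left] at this
  have w2 := tr_center s3 (mem_sup_right hw)
    (mem_C.2 fun u hu => (mem_C.1 (mem_inf.1 hu).2 w hw).symm) w1
  have w3 : ⁅T₁ ⊔ V, T₁ ⊔ V⁆ ≤ T₁ := by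
    rw [commutator_le]
    intro c hc c' hc'
    obtain ⟨p, hp, v, hv, rfl⟩ := (mem_sup_of_le_normalizer_left hn).1 hc
    obtain ⟨p', hp', v', hv', rfl⟩ := (mem_sup_of_le_normalizer_left hn).1 hc'
    have c1 : v * (p' * v') = p' * v' * v := by
      rw [← mul_assoc, ← h.commT hp' (hW2 hv), mul_assoc, mem_C.1 (hVc hv') v hv, mul_assoc]
    have c2 : v' * p⁻¹ = p⁻¹ * v' := (h.commT (inv_mem hp) (hW2 hv')).symm
    have : ⁅p * v, p' * v'⁆ = p * p' * p⁻¹ * p'⁻¹ := by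
      rw [commutatorElement_def, mul_assoc p v, c1,
        show p * (p' * v' * v) * (p * v)⁻¹ = p * p' * (v' * p⁻¹) by group, c2]; group
    rw [this]
    exact mul_mem (mul_mem (mul_mem hp hp') (inv_mem hp)) (inv_mem hp')
  rw [e, h.disj w (w3 w2) (hW2 hw), mul_one]
  exact ha

theorem sc_aux (n : ℕ) : ∀ x ∈ T₁, x ^ 2 ^ n = 1 → ∀ g ∈ X, g * x * g⁻¹ ∈ S → g * x * g⁻¹ ∈ T₁ := by
  induction n with
  | zero => intro x _ h1 g _ _; rw [pow_zero, pow_one] at h1; rw [h1]; simp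
  | succ n ih =>
    intro x hx h1 g hg hS
    obtain ⟨a, ha, b, hb, e⟩ := h.dec hS
    have e0 : g * (x * x) * g⁻¹ = a * b * (a * b) := by rw [← e]; group
    have hb2 := h.sq_one ha hb (e0 ▸ ih (x * x) (mul_mem hx hx)
      (by rw [← _root_.sq, ← pow_mul, ← pow_succ', h1]) g hg (by rw [e0, ← e]; exact mul_mem hS hS))
    obtain ⟨q, hq, hq'⟩ := h.d₂.intoW (h.d₂.syl.le hb) hb2
    have e1 : q * g * x * (q * g)⁻¹ = a * (q * b * q⁻¹) := by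
      rw [show q * g * x * (q * g)⁻¹ = q * (g * x * g⁻¹) * q⁻¹ by group, e, ← mul_assoc,
        ← h.comm a (h.d₁.syl.le ha) q hq]; group
    obtain ⟨y, hy⟩ := extremal h.syl x
    obtain ⟨k, hk, e2, hk'⟩ := hy 1 (one_mem _)
    rw [one_mul, inv_one, mul_one] at e2 hk'
    have y1 : y ∈ T₁ := e2 ▸ h.lemC hk ((cj_mono k (le_inf (h.d₂.WT.trans h.l₂) fun w hw =>
      mem_z.2 (h.commT hx (h.d₂.WT hw)).symm)).trans hk') (h.d₁.syl.le hx)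
      (hk' (conj_mem_cj k (mem_inf.2 ⟨h.l₁ hx, mem_z.2 rfl⟩)))
    obtain ⟨l, hl, e3, hl'⟩ := hy (q * g) (mul_mem (h.le₂ hq) hg)
    rw [e1] at e3 hl'
    have hW : cj(l, W₂) ≤ S := (cj_mono l (le_inf (h.d₂.WT.trans h.l₂) fun w hw => mem_z.2 (by
      rw [← mul_assoc, ← h.commT ha (h.d₂.WT hw), mul_assoc, h.d₂.Wc w hw _ hq',
        mul_assoc a]))).trans hl'
    have a1 := h.lemC hl hW (h.d₁.syl.le ha) (hl' (conj_mem_cj l (mem_inf.2 ⟨h.l₁ ha, mem_z.2 (by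
      rw [mul_assoc a, h.commT ha (h.d₂.WT hq')])⟩)))
    have b1 := h.symm.cj_W hl hW (conj_mem_cj l hq')
    have := h.uq a1 b1 (by rw [← e3] at y1; convert y1 using 1; group)
    have hb1 : b = 1 := conj_inj (g := l * q) (by rw [mul_one, mul_inv_cancel, ← this]; group)
    rw [e, hb1, mul_one]
    exact ha

theorem sc : IsStronglyClosed (T₁.subgroupOf X) (S.subgroupOf X) := by
  refine ⟨fun x hx => h.l₁ hx, fun x hx g hg => ?_⟩
  obtain ⟨n, hn⟩ := isPGroup_iff.1 h.d₁.syl.pgrp _ hx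
  exact h.sc_aux n _ hx hn g g.2 hg

theorem false [IsSimpleGroup X] (hX : ¬ IsMulCommutative X) : False := by
  obtain ⟨P, hP⟩ := h.syl.exists_sylow
  have := PF.pf (hP ▸ isSyl_top P) h.sc h.symm.sc
    (fun a ha b hb => Subtype.ext (h.commT ha hb))
    (eq_bot_iff.2 fun a ha => Subtype.ext (h.disj a (mem_inf.1 ha).1 (mem_inf.1 ha).2))
  have top : ∀ {T : Subgroup G} {z : G}, z ∈ T → T ≤ S → z ≠ 1 →
      normalClosure ((T.subgroupOf X : Subgroup X) : Set X) = ⊤ := by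
    intro T z h1 h2 h3
    refine (IsSimpleGroup.eq_bot_or_eq_top_of_normal _ inferInstance).resolve_left fun e => h3 ?_
    have : (⟨z, h.syl.le (h2 h1)⟩ : X) ∈ normalClosure ((T.subgroupOf X : Subgroup X) : Set X) :=
      subset_normalClosure h1
    rw [e] at this
    exact congrArg Subtype.val (mem_bot.1 this)
  rw [top h.d₁.zT h.l₁ h.d₁.z1, top h.d₂.zT h.l₂ h.d₂.z1] at this
  have hp : ⁅(⊤ : Subgroup X), (⊤ : Subgroup X)⁆ = ⊤ := by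
    refine (IsSimpleGroup.eq_bot_or_eq_top_of_normal _ inferInstance).resolve_left fun e => hX ?_
    refine ⟨⟨fun a b => ?_⟩⟩
    have : ⁅a, b⁆ ∈ (⊥ : Subgroup X) := e ▸ commutator_mem_commutator (mem_top a) (mem_top b)
    exact commutatorElement_eq_one_iff_mul_comm.1 (mem_bot.1 this)
  rw [hp] at this
  have hz : (⟨z₁, h.syl.le (h.l₁ h.d₁.zT)⟩ : X) ∈ oc (⊤ : Subgroup X) := by
    rw [oc_top]; exact this (mem_top _)
  have ho := odd_orderOf (odd_oc _) hz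
  have h2 : orderOf (⟨z₁, h.syl.le (h.l₁ h.d₁.zT)⟩ : X) = 2 :=
    orderOf_eq_prime (Subtype.ext (by simpa [_root_.sq] using h.d₁.zz))
      fun e => h.d₁.z1 (congrArg Subtype.val e)
  rw [h2] at ho
  exact absurd ho (by decide)

end Two

end Cfsg.Agent.G2S.W
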