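import Mathlib
import Cfsg.Agent.G2S.WfA
import Cfsg.Agent.Inv.CZ4Base

/-! The end of the wreath theorem: from a doubled generating set to a contradiction. -/

set_option autoImplicit false
set_option linter.unusedSectionVars false
set_option linter.unusedVariables false

namespace Cfsg.Agent.G2S.W

open Cfsg Subgroup Cfsg.Agent.PLocal Cfsg.Agent.PLocal.Amb Cfsg.Agent.Lyons Cfsg.Agent.Wr
open scoped commutatorElement

universe u
variable {G : Type u} [Group G] [Finite G]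

theorem Dat.map {B T W : Subgroup G} {z y : G} {j : ℕ} (d : Dat B T W z y j) {H : Type u} [Group H]
    [Finite H] (f : G →* H) (hf : Function.Injective f) :
    Dat (B.map f) (T.map f) (W.map f) (f z) (f y) j := by
  have cm : ∀ M : Subgroup G, Nat.card (M.map f) = Nat.card M := fun M =>
    (Nat.card_congr (M.equivMapOfInjective f hf).toEquiv).symm
  refine ⟨by rw [← map_commutator, d.perf], d.syl.map f, ⟨z, d.zT, rfl⟩,
    fun e => d.z1 (hf (by rw [e, map_one])), ?_, ?_, map_mono d.WT, ?_, ?_, ?_,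
    by rw [cm]; exact d.c3, by rw [d.yz], ?_, ⟨y, d.yW, rfl⟩, ?_, ?_, ?_⟩
  · rintro _ ⟨u, hu, rfl⟩; rw [← map_mul, ← map_mul, d.zc u hu]
  · rintro _ ⟨x, hx, rfl⟩ h
    rcases d.cen x hx fun u hu => hf (by rw [map_mul, map_mul]; exact h _ ⟨u, hu, rfl⟩) with e | e
    · left; rw [e, map_one]
    · right; rw [e]
  · rintro _ ⟨u, hu, rfl⟩
    rw [← cj_eq_iff, ← map_cj, cj_eq_iff.2 (d.Wn hu)]
  · rintro _ ⟨a, ha, rfl⟩ _ ⟨b, hb, rfl⟩; rw [← map_mul, ← map_mul, d.Wc a ha b hb]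
  · rintro _ ⟨x, hx, rfl⟩ h
    exact ⟨x, d.Wself x hx fun w hw => hf (by rw [map_mul, map_mul]; exact h _ ⟨w, hw, rfl⟩), rfl⟩
  · refine (map_mono d.Wgen).trans ?_
    rw [MonoidHom.map_closure]
    refine closure_mono ?_
    rintro _ ⟨x, ⟨hx, b, hb, rfl⟩, rfl⟩
    exact ⟨⟨_, hx, rfl⟩, f b, ⟨b, hb, rfl⟩, by simp⟩
  · rintro _ ⟨x, hx, rfl⟩ h2 h1
    obtain ⟨b, hb, h⟩ := d.cls x hx (hf (by rw [map_mul, h2, map_one]))
      fun e => h1 (by rw [e, map_one])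
    refine ⟨f b, ⟨b, hb, rfl⟩, ?_⟩
    rcases h with h | h
    · left; rw [← h]; simp
    · right; rw [← h]; simp
  · rw [cm]
    refine d.idx.trans (Nat.mul_le_mul_left _ ?_)
    rw [← cm]
    refine card_le_of_le ?_
    rintro _ ⟨x, hx, rfl⟩
    exact mem_inf.2 ⟨⟨x, (mem_inf.1 hx).1, rfl⟩, mem_z.2 (by
      rw [← map_mul, ← map_mul, mem_z.1 (mem_inf.1 hx).2])⟩
  · obtain ⟨u, hu, h⟩ := d.big
    exact ⟨f u, ⟨u, hu, rfl⟩, fun e => h (hf (by rw [map_pow, e, map_one]))⟩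

theorem Dat.cj {B T W : Subgroup G} {z y : G} {j : ℕ} (d : Dat B T W z y j) (g : G) :
    Dat cj(g, B) cj(g, T) cj(g, W) (g * z * g⁻¹) (g * y * g⁻¹) j :=
  d.map (MulAut.conj g).toMonoidHom (MulAut.conj g).injective

theorem fin {X B T W : Subgroup G} [X.Normal] [IsSimpleGroup X] (hX : ¬ IsMulCommutative X)
    {z y t : G} {j : ℕ} (d : Dat B T W z y j) (hB : B ≤ X) (tt : t * t = 1)
    (hc : ∀ a ∈ B, ∀ b ∈ B, a * (t * b * t⁻¹) = t * b * t⁻¹ * a)
    (hi : ∀ a ∈ T, t * a * t⁻¹ ∈ T → a = 1)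
    (hC : ∀ P : Subgroup G, P ≤ 𝐳[t] → IsPGroup 2 P → Nat.card P ≤ 2 * Nat.card T) : False := by
  have ti : t⁻¹ = t := inv_eq_of_sq tt
  have tc : ∀ a : G, t * (t * a * t⁻¹) * t⁻¹ = a := fun a => conj_conj_of_sq tt rfl
  have d2 := d.cj t
  have mc : ∀ {M : Subgroup G} {x : G}, x ∈ cj(t, M) ↔ t * x * t⁻¹ ∈ M := by
    intro M x; rw [mem_cj, ti]
  have hc' : ∀ a ∈ B, ∀ b ∈ cj(t, B), a * b = b * a := fun a ha b hb => by
    have := hc a ha _ (mc.1 hb); rwa [tc] at this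
  have hi' : ∀ a ∈ T, a ∈ cj(t, T) → a = 1 := fun a ha hb => hi a ha (mc.1 hb)
  have hcT : ∀ a ∈ T, ∀ b ∈ cj(t, T), a * b = b * a := fun a ha b hb =>
    hc' a (d.syl.le ha) b (d2.syl.le hb)
  set S := T ⊔ cj(t, T) with hS
  obtain ⟨P, Q, p1, p2, p3⟩ := exists_proj hS hcT hi'
  have pS : IsPGroup 2 S := isPGroup_sup d.syl.pgrp d2.syl.pgrp fun a ha =>
    centralizer_le_normalizer' _ (mem_C.2 fun b hb => (hcT a ha b hb).symm)
  have tS : t ∈ 𝐍[S] := by rw [← cj_eq_iff, hS, cj_sup, ← cj_mul, tt, cj_one, sup_comm]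
  have dS : ∀ a ∈ T, a * (t * a * t⁻¹) ∈ S := fun a ha =>
    mul_mem (mem_sup_left ha) (mem_sup_right (conj_mem_cj t ha))
  have dt : ∀ a ∈ T, a * (t * a * t⁻¹) ∈ 𝐳[t] := fun a ha => mem_z.2 (by
    rw [← conj_eq_iff.1 (show t * (a * (t * a * t⁻¹)) * t⁻¹ = a * (t * a * t⁻¹) by
      rw [show t * (a * (t * a * t⁻¹)) * t⁻¹ = t * a * t⁻¹ * (t * (t * a * t⁻¹) * t⁻¹) by group,
        tc, hc a (d.syl.le ha) a (d.syl.le ha)])])
  -- no conjugate of `t` lies in `S`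
  have hD : ∀ g, g * t * g⁻¹ ∉ S := by
    intro g hg
    obtain ⟨a1, a2, a3⟩ := p1 _ hg
    have h0 := p3 _ hg _ hg
    have h1 := p2 1 (one_mem _) 1 (one_mem _)
    rw [conj_sq tt] at h0
    rw [mul_one] at h1
    obtain ⟨p, hp, hp'⟩ := d.into (d.syl.le a1) (h0.1.symm.trans h1.1)
    obtain ⟨q, hq, hq'⟩ := d2.into (d2.syl.le a2) (h0.2.symm.trans h1.2)
    rw [d.yz, or_self] at hp'
    rw [d2.yz, or_self] at hq'
    set a := P (g * t * g⁻¹)
    set b := Q (g * t * g⁻¹)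
    have e1 : p * q * g * t * (p * q * g)⁻¹ = p * a * p⁻¹ * (q * b * q⁻¹) := by
      have c1 := hc' a (d.syl.le a1) q hq
      have c2 := hc' p⁻¹ (inv_mem hp) _ (mul_mem (mul_mem hq (d2.syl.le a2)) (inv_mem hq))
      calc p * q * g * t * (p * q * g)⁻¹ = p * q * (g * t * g⁻¹) * q⁻¹ * p⁻¹ := by group
        _ = p * (q * a) * b * q⁻¹ * p⁻¹ := by rw [a3]; group
        _ = p * a * (q * b * q⁻¹ * p⁻¹) := by rw [← c1]; group
        _ = _ := by rw [← c2]; group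
    set k := p * q * g
    have c1 : p * a * p⁻¹ ∈ 𝐂[S] := by
      rcases hp' with e | e <;> rw [e]
      · exact one_mem _
      · rw [hS, Amb.centralizer_sup]
        exact mem_inf.2 ⟨mem_C.2 d.zc, mem_C.2 fun b hb => (hcT z d.zT b hb).symm⟩
    have c2 : q * b * q⁻¹ ∈ 𝐂[S] := by
      rcases hq' with e | e <;> rw [e]
      · exact one_mem _
      · rw [hS, Amb.centralizer_sup]
        exact mem_inf.2 ⟨mem_C.2 fun b hb => hcT b hb _ d2.zT, mem_C.2 d2.zc⟩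
    have U1 : cj(k⁻¹, S) ≤ 𝐳[t] := by
      rw [cj_le_iff, inv_inv, ← centralizer_singleton_conj, e1]
      exact fun u hu => mem_z.2 (mem_C.1 (mul_mem c1 c2) u hu)
    have U3 := hC _ U1 (isPGroup_cj _ pS)
    rw [card_cj, hS, card_sup_of hcT hi', card_cj] at U3
    have := d.c3
    nlinarith
  have tnS : t ∉ S := by simpa using hD 1
  set S₀ := S ⊔ zpowers t with hS₀
  have tN : zpowers t ≤ 𝐍[S] := zpowers_le.2 tS
  have m0 : ∀ x ∈ S₀, x ∈ S ∨ x * t ∈ S := fun x hx => by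
    obtain ⟨a, ha, b, ⟨n, rfl⟩, rfl⟩ := (mem_sup_of_le_normalizer_left tN).1 hx
    rcases Int.even_or_odd' n with ⟨m, rfl | rfl⟩
    · left; simpa [zpow_mul, sq, tt] using ha
    · right; simpa [zpow_add, zpow_mul, sq, tt, mul_assoc] using ha
  have p0 : IsPGroup 2 S₀ := by
    rw [hS₀, sup_comm]
    exact isPGroup_sup (isPGroup_zpowers ⟨1, by simpa [sq] using tt⟩) pS tN
  have t0 : t ∈ S₀ := mem_sup_right (mem_zpowers t)
  have c0 : 2 * Nat.card T ≤ Nat.card ↥(S₀ ⊓ 𝐳[t]) := by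
    let φ : Bool × T → ↥(S₀ ⊓ 𝐳[t]) := fun p => ⟨p.2 * (t * p.2 * t⁻¹) * (bif p.1 then t else 1),
      mul_mem (mem_inf.2 ⟨mem_sup_left (dS _ p.2.2), dt _ p.2.2⟩) (by
        cases p.1
        · exact one_mem _
        · exact mem_inf.2 ⟨t0, mem_z.2 rfl⟩)⟩
    have hφ : Function.Injective φ := by
      rintro ⟨e, a⟩ ⟨e', b⟩ h
      have h := congrArg Subtype.val h
      have key : (a : G) * (t * a * t⁻¹) = b * (t * b * t⁻¹) → a = b := fun h => Subtype.ext (by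
        have := congrArg P h
        rwa [(p2 a a.2 _ (conj_mem_cj t a.2)).1, (p2 b b.2 _ (conj_mem_cj t b.2)).1] at this)
      have bad : ∀ a b : T, (a : G) * (t * a * t⁻¹) * 1 ≠ b * (t * b * t⁻¹) * t := fun a b h =>
        tnS (by
          have := mul_mem (inv_mem (dS b b.2)) (dS a a.2)
          rwa [← mul_one ((a : G) * _), h, inv_mul_cancel_left] at this)
      cases e <;> cases e'
      · rw [key (mul_right_cancel h)]
      · exact absurd h (bad a b)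
      · exact absurd h.symm (bad b a)
      · rw [key (mul_right_cancel h)]
    simpa using Nat.card_le_card_of_injective φ hφ
  have s0 : IsSyl 2 S₀ ⊤ := by
    obtain ⟨R, hR, hle⟩ := exists_isSyl_ge p0 le_top
    suffices S₀ = R by rw [this]; exact hR
    refine eq_of_inf_normalizer_le hR.pgrp hle fun n hn => ?_
    obtain ⟨hnR, hn⟩ := mem_inf.1 hn
    have h1 := (m0 _ (conj_mem_of_mem_normalizer hn t0)).resolve_left (hD n)
    obtain ⟨a, b, a1, a2, a3⟩ : ∃ a b, a ∈ T ∧ b ∈ cj(t, T) ∧ n * t * n⁻¹ * t = a * b :=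
      ⟨_, _, p1 _ h1⟩
    have e1 : n * t * n⁻¹ = a * b * t := by rw [← a3, mul_assoc (n * t * n⁻¹), tt, mul_one]
    have e2 : a * (t * b * t⁻¹) * (b * (t * a * t⁻¹)) = 1 * 1 := by
      have := conj_sq (g := n) tt
      rw [e1] at this
      have c1 := hcT _ (mc.1 a2) _ (mul_mem a2 (conj_mem_cj t a1))
      rw [mul_assoc a, c1, mul_one, ← this, ti]
      rw [show a * (b * (t * a * t) * (t * b * t)) = a * b * t * (a * (t * t) * b * t) by group, tt,
        mul_one]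
    have e3 := congrArg P e2
    rw [(p2 _ (mul_mem a1 (mc.1 a2)) _ (mul_mem a2 (conj_mem_cj t a1))).1,
      (p2 _ (one_mem _) _ (one_mem _)).1] at e3
    have e4 : a⁻¹ * n ∈ 𝐳[t] := mem_z.2 (conj_eq_iff.1 (by
      have hb : b = t⁻¹ * a⁻¹ * t := by rw [← eq_inv_of_mul_eq_one_right e3]; group
      rw [show a⁻¹ * n * t * (a⁻¹ * n)⁻¹ = a⁻¹ * (n * t * n⁻¹) * a by group, e1, hb,
        show a⁻¹ * (a * (t⁻¹ * a⁻¹ * t) * t) * a = t⁻¹ * a⁻¹ * (t * t) * a by group, tt, ti]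
      group))
    have aS : a ∈ S₀ := mem_sup_left (mem_sup_left a1)
    have e5 : S₀ ⊓ 𝐳[t] = R ⊓ 𝐳[t] := eq_of_le_of_card_ge (inf_le_inf_right _ hle)
      ((hC _ inf_le_right (hR.pgrp.to_le inf_le_left)).trans c0)
    have e6 : a⁻¹ * n ∈ S₀ ⊓ 𝐳[t] := e5 ▸ mem_inf.2 ⟨mul_mem (inv_mem (hle aS)) hnR, e4⟩
    simpa using mul_mem aS (mem_inf.1 e6).1
  have tX : ∀ g : G, g ∈ 𝐍[X] := fun g => by rw [normalizer_eq_top]; exact mem_top g
  have B2 : cj(t, B) ≤ X := cj_le_of_mem_normalizer hB (tX t)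
  have SX : S ≤ X := sup_le (d.syl.le.trans hB) (d2.syl.le.trans B2)
  have tnX : t ∉ X := fun ht => by
    have hp : ⁅X, X⁆ = X := by
      have h1 : ⁅(⊤ : Subgroup X), (⊤ : Subgroup X)⁆ = ⊤ := by
        refine (IsSimpleGroup.eq_bot_or_eq_top_of_normal _ inferInstance).resolve_left
          fun e => hX ⟨⟨fun a b => ?_⟩⟩
        have : ⁅a, b⁆ ∈ (⊥ : Subgroup X) := e ▸ commutator_mem_commutator (mem_top a) (mem_top b)
        exact commutatorElement_eq_one_iff_mul_comm.1 (mem_bot.1 this)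
      have := congrArg (Subgroup.map X.subtype) h1
      rwa [map_commutator, ← MonoidHom.range_eq_map, range_subtype] at this
    obtain ⟨g, -, hg⟩ := Inv.CZ4.thompson hp (s0.mono (sup_le SX (zpowers_le.2 ht)) le_top)
      le_sup_left (Inv.CZ4.ix_of_cases (s := t) (tt ▸ one_mem _)
        (fun m hm => inv_conj_mem_of_mem_normalizer tS hm) fun a ha => (m0 a ha).imp id fun h => by
          have := inv_conj_mem_of_mem_normalizer tS h
          rwa [mul_assoc, mul_assoc, tt, mul_one] at this) ht tt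
    exact hD g hg
  have s1 : IsSyl 2 S X := by
    have := s0.inf_of_le (N := X) le_top fun g _ => tX g
    rwa [show S₀ ⊓ X = S from le_antisymm (fun x hx => (m0 x (mem_inf.1 hx).1).resolve_right
      fun h => tnX (by simpa using mul_mem (inv_mem (mem_inf.1 hx).2) (SX h)))
      (le_inf le_sup_left SX)] at this
  exact Two.false ⟨d, d2, hB, B2, hc', hi', tt, tX t, rfl, rfl, (card_cj t T).symm, hS, s1⟩ hX

end Cfsg.Agent.G2S.W
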